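import Groth.Prelude.Def_RDer
import Mathlib.CategoryTheory.Preadditive.Injective.Preserves
import Mathlib.Algebra.Homology.ShortComplex.ExactFunctor
import Mathlib.CategoryTheory.Abelian.Refinements

/-!
# Derived functors: exact functors, and complexes of injectives exact in low degrees
-/

universe v₁ v₂ v₃ u₁ u₂ u₃

open CategoryTheory CategoryTheory.Limits HomologicalComplex

namespace Groth.Agent.DerFun

variable {A : Type u₁} [Category.{v₁} A] [Abelian A] {B : Type u₂} [Category.{v₂} B] [Abelian B]
  {C : Type u₃} [Category.{v₃} C] [Abelian C]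

section Comp

variable (G : A ⥤ B) [G.Additive] [PreservesFiniteLimits G] [PreservesFiniteColimits G]

/-- An exact functor preserving injectives sends injective resolutions to injective resolutions. -/
noncomputable def mapInjRes [G.PreservesInjectiveObjects] {X : A} (I : InjectiveResolution X) :
    InjectiveResolution (G.obj X) where
  cocomplex := (G.mapHomologicalComplex _).obj I.cocomplex
  injective n := G.injective_obj (I.cocomplex.X n)
  ι := RDer.mapAug G I.ι
  quasiIso := by unfold RDer.mapAug; infer_instance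

variable [HasInjectiveResolutions A] [HasInjectiveResolutions B]

/-- `R^n (G ⋙ F) = R^n F ∘ G` for `G` exact preserving injectives. -/
noncomputable def rightDerivedCompIso [G.PreservesInjectiveObjects] (F : B ⥤ C) [F.Additive] (n : ℕ)
    (X : A) : ((G ⋙ F).rightDerived n).obj X ≅ (F.rightDerived n).obj (G.obj X) :=
  (injectiveResolution X).isoRightDerivedObj (G ⋙ F) n ≪≫
    ((mapInjRes G (injectiveResolution X)).isoRightDerivedObj F n).symm

omit [HasInjectiveResolutions B] in
/-- `R^n (F ⋙ G) = G ∘ R^n F` for `G` exact. -/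
noncomputable def rightDerivedPostIso {A' : Type u₃} [Category.{v₃} A'] [Abelian A']
    [HasInjectiveResolutions A'] (F : A' ⥤ A) [F.Additive] (n : ℕ)
    (X : A') : ((F ⋙ G).rightDerived n).obj X ≅ G.obj ((F.rightDerived n).obj X) :=
  (injectiveResolution X).isoRightDerivedObj (F ⋙ G) n ≪≫
    ((((F.mapHomologicalComplex _).obj (injectiveResolution X).cocomplex).sc n).mapHomologyIso G) ≪≫
    G.mapIso ((injectiveResolution X).isoRightDerivedObj F n).symm

end Comp

section LowDegrees

variable (K : CochainComplex B ℕ) [hinj : ∀ i, Injective (K.X i)] {n : ℕ}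
  (hex : ∀ i < n, K.ExactAt i)

include hex hinj in
/-- A complex of injectives exact in degrees `< n` is contractible in degrees `< n`. -/
lemma exists_contraction : ∀ m, m ≤ n → ∃ h : ∀ i, K.X (i + 1) ⟶ K.X i,
    (0 < m → K.d 0 1 ≫ h 0 = 𝟙 _) ∧
      ∀ i, i + 1 < m → h i ≫ K.d i (i + 1) + K.d (i + 1) (i + 2) ≫ h (i + 1) = 𝟙 _ := by
  classical
  intro m
  induction m with
  | zero => exact fun _ => ⟨fun _ => 0, fun h => absurd h (lt_irrefl 0), fun i hi => absurd hi (by omega)⟩
  | succ m ih =>
    intro hm
    obtain ⟨h, h0, h1⟩ := ih (by omega)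
    cases m with
    | zero =>
      have hmono : Mono (K.d 0 1) := by
        have := (K.exactAt_iff' 0 0 1 (by simp) (by simp)).mp (hex 0 (by omega))
        exact ((ShortComplex.exact_iff_mono _ (K.shape 0 0 (by simp))).mp this :)
      refine ⟨Function.update h 0 (Injective.factorThru (𝟙 _) (K.d 0 1)), fun _ => ?_,
        fun i hi => absurd hi (by omega)⟩
      rw [Function.update_self]; exact Injective.comp_factorThru _ _
    | succ k =>
      have hexk : (ShortComplex.mk _ _ (K.d_comp_d k (k + 1) (k + 2))).Exact :=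
        (K.exactAt_iff' k (k + 1) (k + 2) (by simp) (by simp only [CochainComplex.next]; rfl)).mp
          (hex (k + 1) (by omega))
      have hd : K.d k (k + 1) ≫ (𝟙 _ - h k ≫ K.d k (k + 1)) = 0 := by
        rw [Preadditive.comp_sub, Category.comp_id, sub_eq_zero, ← Category.assoc]
        cases k with
        | zero => rw [h0 (by omega), Category.id_comp]
        | succ l =>
          have := h1 l (by omega)
          rw [← eq_sub_iff_add_eq'] at this
          rw [this, Preadditive.sub_comp, Category.id_comp, Category.assoc, K.d_comp_d, comp_zero,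
            sub_zero]
      refine ⟨Function.update h (k + 1) (hexk.descToInjective _ hd), fun _ => ?_, fun i hi => ?_⟩
      · rw [Function.update_of_ne (by omega)]; exact h0 (by omega)
      · rw [Function.update_of_ne (by omega)]
        by_cases hik : i = k
        · subst hik
          rw [Function.update_self, show K.d (i + 1) (i + 2) ≫ _ = _ from
            hexk.comp_descToInjective _ hd]
          abel
        · rw [Function.update_of_ne (by omega)]; exact h1 i (by omega)

include hex hinj in
/-- An additive functor keeps a complex of injectives exact in the degrees where it is exact from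
the beginning. -/
lemma exactAt_map (Ψ : B ⥤ C) [Ψ.Additive] (i : ℕ) (hi : i < n) :
    ((Ψ.mapHomologicalComplex _).obj K).ExactAt i := by
  obtain ⟨h, h0, h1⟩ := exists_contraction K hex (i + 1) (by omega)
  cases i with
  | zero =>
    rw [HomologicalComplex.exactAt_iff' _ 0 0 1 (by simp) (by simp)]
    have : IsSplitMono (Ψ.map (K.d 0 1)) := ⟨⟨{ retraction := Ψ.map (h 0)
                                                id := by rw [← Ψ.map_comp, h0 (by omega), Ψ.map_id] }⟩⟩
    exact (ShortComplex.exact_iff_mono _ (((Ψ.mapHomologicalComplex _).obj K).shape 0 0 (by simp))).mpr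
      (inferInstanceAs (Mono (Ψ.map (K.d 0 1))))
  | succ k =>
    rw [HomologicalComplex.exactAt_iff' _ k (k + 1) (k + 2) (by simp) (by simp),
      ShortComplex.exact_iff_exact_up_to_refinements]
    intro T x hx
    have := congrArg Ψ.map (h1 k (by omega))
    rw [Ψ.map_add, Ψ.map_comp, Ψ.map_comp, Ψ.map_id] at this
    have key : ∀ y : T ⟶ Ψ.obj (K.X (k + 1)), y ≫ Ψ.map (K.d (k + 1) (k + 2)) = 0 →
        𝟙 T ≫ y = (y ≫ Ψ.map (h k)) ≫ Ψ.map (K.d k (k + 1)) := by
      intro y hy
      rw [Category.id_comp, Category.assoc]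
      conv_lhs => rw [← Category.comp_id y]
      rw [← this, Preadditive.comp_add, reassoc_of% hy, zero_comp, add_zero]
    exact ⟨T, 𝟙 _, inferInstance, _, key x hx⟩

end LowDegrees

section Comparison

variable (Ψ : B ⥤ C) [Ψ.Additive] [PreservesFiniteLimits Ψ] (K : CochainComplex B ℕ)
  [hinj : ∀ i, Injective (K.X i)] (n : ℕ) (hex : ∀ i < n, K.ExactAt i)

omit hinj in
lemma isIso_cyclesComparison : IsIso (RDer.cyclesComparison Ψ K n) :=
  let l₁ := ((Ψ.mapHomologicalComplex _).obj K).cyclesIsKernel n ((ComplexShape.up ℕ).next n) rfl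
  let l₂ := KernelFork.mapIsLimit _ (K.cyclesIsKernel n ((ComplexShape.up ℕ).next n) rfl) Ψ
  show IsIso (IsLimit.conePointUniqueUpToIso l₁ l₂).hom from inferInstance

include hex hinj in
lemma exists_toCycles_regular : ∃ r : K.cycles n ⟶ K.X ((ComplexShape.up ℕ).prev n),
    K.toCycles ((ComplexShape.up ℕ).prev n) n ≫ r ≫ K.toCycles _ n = K.toCycles _ n := by
  obtain ⟨h, h0, h1⟩ := exists_contraction K hex n le_rfl
  cases n with
  | zero =>
    refine ⟨0, ?_⟩
    rw [show K.toCycles ((ComplexShape.up ℕ).prev 0) 0 = 0 from by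
      rw [← cancel_mono (K.iCycles 0)]; simp]
    simp
  | succ k =>
    have hp : (ComplexShape.up ℕ).prev (k + 1) = k := by simp
    rw [hp]
    refine ⟨K.iCycles (k + 1) ≫ h k, ?_⟩
    rw [← cancel_mono (K.iCycles (k + 1))]
    simp only [Category.assoc, toCycles_i, toCycles_i_assoc]
    cases k with
    | zero => rw [reassoc_of% h0 (by omega)]
    | succ l =>
      have := h1 l (by omega)
      rw [← eq_sub_iff_add_eq'] at this
      rw [reassoc_of% this, Preadditive.sub_comp, Category.id_comp, Category.assoc, K.d_comp_d,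
        comp_zero, sub_zero]

include hex hinj in
/-- `H^n (Ψ K) ≅ Ψ (H^n K)` if `K` is a complex of injectives exact below `n`. -/
theorem isIso_homologyComparison : IsIso (RDer.homologyComparison Ψ K n) := by
  obtain ⟨r, hr⟩ := exists_toCycles_regular K n hex
  have hcy := isIso_cyclesComparison Ψ K n
  set π := K.homologyπ n with hπ
  have hl := K.homologyIsCokernel ((ComplexShape.up ℕ).prev n) n rfl
  obtain ⟨s, hs⟩ := CokernelCofork.IsColimit.desc' hl
    (𝟙 _ - r ≫ K.toCycles _ n) (by rw [Preadditive.comp_sub, Category.comp_id, hr, sub_self])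
  have hsπ : π ≫ s = 𝟙 _ - r ≫ K.toCycles _ n := hs
  have hsec : s ≫ π = 𝟙 _ := by
    rw [← cancel_epi π, reassoc_of% hsπ]
    simp [hπ, Preadditive.sub_comp]
  have hfac : RDer.homologyComparison Ψ K n ≫ Ψ.map s ≫ inv (RDer.cyclesComparison Ψ K n) ≫
      ((Ψ.mapHomologicalComplex _).obj K).homologyπ n = 𝟙 _ := by
    rw [← cancel_epi (((Ψ.mapHomologicalComplex _).obj K).homologyπ n)]
    rw [RDer.homologyπ_homologyComparison_assoc, ← Ψ.map_comp_assoc, hsπ, Ψ.map_sub, Ψ.map_id,
      Ψ.map_comp, Preadditive.sub_comp, Category.id_comp, Preadditive.comp_sub,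
      IsIso.hom_inv_id_assoc]
    have hz : Ψ.map (K.toCycles ((ComplexShape.up ℕ).prev n) n) ≫
        inv (RDer.cyclesComparison Ψ K n) ≫ ((Ψ.mapHomologicalComplex _).obj K).homologyπ n = 0 := by
      rw [← RDer.toCycles_cyclesComparison Ψ K n]
      erw [Category.assoc, IsIso.hom_inv_id_assoc]
      exact HomologicalComplex.toCycles_comp_homologyπ _ _ _
    simp [hz]
  have hfac' : (Ψ.map s ≫ inv (RDer.cyclesComparison Ψ K n) ≫ ((Ψ.mapHomologicalComplex _).obj K).homologyπ n) ≫
      RDer.homologyComparison Ψ K n = 𝟙 _ := by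
    simp only [Category.assoc, RDer.homologyπ_homologyComparison, IsIso.inv_hom_id_assoc]
    rw [← Ψ.map_comp, hsec, Ψ.map_id]
  exact ⟨_, hfac, hfac'⟩

end Comparison

end Groth.Agent.DerFun
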