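import Groth.Prelude.Def_RDer
import Mathlib.CategoryTheory.Abelian.Injective.Resolution
import Mathlib.Algebra.Homology.ShortComplex.ExactFunctor

/-!
# The first edge map is an isomorphism when the higher derived functors vanish
-/

universe v₁ v₂ v₃ u₁ u₂ u₃

open CategoryTheory CategoryTheory.Limits HomologicalComplex

namespace Groth.Agent.DerFun

variable {A : Type u₁} [Category.{v₁} A] [Abelian A] [HasInjectiveResolutions A]
  {B : Type u₂} [Category.{v₂} B] [Abelian B] [HasInjectiveResolutions B]
  {C : Type u₃} [Category.{v₃} C] [Abelian C]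

/-- `R^q Ψ (Φ X) ≅ R^q (Φ ⋙ Ψ) X` when `X` is `Φ`-acyclic. -/
theorem isIso_edgeIn (Φ : A ⥤ B) [Φ.Additive] [Φ.PreservesInjectiveObjects] [PreservesFiniteLimits Φ]
    (Ψ : B ⥤ C) [Ψ.Additive] (q : ℕ) (X : A)
    (h : ∀ n : ℕ, IsZero ((Φ.rightDerived (n + 1)).obj X)) : IsIso (RDer.edgeIn Φ Ψ q X) := by
  let I := injectiveResolution X
  let J := injectiveResolution (Φ.obj X)
  let η := RDer.mapAug Φ I.ι
  have hq : QuasiIso η := by
    rw [quasiIso_iff]
    intro n
    cases n with
    | zero =>
      rw [CochainComplex.quasiIsoAt₀_iff, ShortComplex.quasiIso_iff_of_zeros] <;>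
        try (first | rfl | simp)
      all_goals try rfl
      have hex : (ShortComplex.mk _ _ (RDer.res_ι_d I.cocomplex I.ι)).Exact := RDer.res_exact₀ _ _
      have hη : η.f 0 = Φ.map (I.ι.f 0) := by
        simp [η, RDer.mapAug]
        exact Category.id_comp _
      have hmη : Mono (Φ.map (I.ι.f 0)) := by
        have := RDer.res_mono I.cocomplex I.ι
        infer_instance
      refine ⟨?_, by show Mono (η.f 0); rw [hη]; exact hmη⟩
      refine ShortComplex.exact_of_iso ?_ ((hex.map_of_mono_of_preservesKernel Φ (RDer.res_mono _ _) inferInstance))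
      exact ShortComplex.isoMk (Iso.refl _) (Iso.refl _) (Iso.refl _) (by simp [hη]; exact (Category.id_comp _).trans (Category.comp_id _).symm) (by simp; exact (Category.id_comp _).trans (Category.comp_id _).symm)
    | succ n =>
      rw [quasiIsoAt_iff_exactAt η (n + 1) (CochainComplex.exactAt_succ_single_obj _ _),
        exactAt_iff_isZero_homology]
      exact (h n).of_iso (I.isoRightDerivedObj Φ (n + 1)).symm
  let P : InjectiveResolution (Φ.obj X) :=
    { cocomplex := (Φ.mapHomologicalComplex _).obj I.cocomplex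
      injective := fun n => Φ.injective_obj (I.cocomplex.X n)
      ι := η
      quasiIso := hq }
  let d := RDer.descToInjectives (𝟙 (Φ.obj X)) J.cocomplex J.ι P.cocomplex P.ι
  let e := InjectiveResolution.homotopyEquiv J P
  have hd : J.ι ≫ d = (CochainComplex.single₀ B).map (𝟙 _) ≫ P.ι := by
    refine HomologicalComplex.from_single_hom_ext ?_
    simp only [HomologicalComplex.comp_f, CategoryTheory.Functor.map_id, HomologicalComplex.id_f,
      Category.id_comp, d]
    rw [RDer.ι_descToInjectives_f_zero, Category.id_comp]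
  have he : J.ι ≫ e.hom = (CochainComplex.single₀ B).map (𝟙 _) ≫ P.ι := by
    rw [CategoryTheory.Functor.map_id, Category.id_comp]
    exact InjectiveResolution.homotopyEquiv_hom_ι J P
  have hom := InjectiveResolution.descHomotopy (I := J) (J := P) (𝟙 _) d e.hom hd he
  have key : (HomologicalComplex.homologyFunctor C (ComplexShape.up ℕ) q).map
      ((Ψ.mapHomologicalComplex _).map d) =
      (HomologicalComplex.homologyFunctor C (ComplexShape.up ℕ) q).map
        ((Ψ.mapHomologicalComplex _).map e.hom) := (Ψ.mapHomotopy hom).homologyMap_eq q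
  have : IsIso ((HomologicalComplex.homologyFunctor C (ComplexShape.up ℕ) q).map
      ((Ψ.mapHomologicalComplex _).map d)) := by
    rw [key]
    exact ((Ψ.mapHomotopyEquiv e).toHomologyIso q).isIso_hom
  show IsIso ((J.isoRightDerivedObj Ψ q).hom ≫ _ ≫ (I.isoRightDerivedObj (Φ ⋙ Ψ) q).inv)
  exact IsIso.comp_isIso' inferInstance (IsIso.comp_isIso' this inferInstance)

end Groth.Agent.DerFun
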